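import Mathlib
import Cfsg.Agent.Lib.Helper99.GUSP.Defs
import Cfsg.Agent.Lib.Helper94.Symp
import Cfsg.Agent.Lib.Helper45.HermGU

/-!
# GUSP (S5976), package [GU]

`E := QuadraticAlgebra F a 0` (the field `F(√a)`), `Φ : F^{2d} → E^d`, and
`S := {x | ∃ g ∈ GU_d(E), Φ (x v) = g Φ v}`.
-/

set_option autoImplicit false

namespace Cfsg.Agent.Lib.Helper24.GUSP

open Matrix Cfsg.Agent.Lib.Helper99.GUSP Cfsg.Agent.Lib.Helper94

universe u

section QA

variable {F : Type u} [Field F] [Fintype F] (a : F) [Fact (∀ r : F, r ^ 2 ≠ a + 0 * r)]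

/-- Frobenius `z ↦ z^q` on `F(√a)` is the conjugation. -/
theorem gu_pow_card (hodd : Odd (Fintype.card F)) (ha : ¬ IsSquare a)
    (z : QuadraticAlgebra F a 0) : z ^ Fintype.card F = star z := by
  obtain ⟨p, hp⟩ := CharP.exists F
  haveI := hp
  haveI : Fact p.Prime := ⟨CharP.char_is_prime F p⟩
  obtain ⟨n, -, hn⟩ := FiniteField.card F p
  haveI : CharP (QuadraticAlgebra F a 0) p :=
    charP_of_injective_algebraMap (algebraMap F (QuadraticAlgebra F a 0)).injective p
  have hR : Fintype.card F % 2 = 1 := Nat.odd_iff.mp hodd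
  have hchar : ringChar F ≠ 2 := by
    intro h
    have := FiniteField.even_card_iff_char_two.mp h
    omega
  have ha0 : a ≠ 0 := by
    rintro rfl
    exact ha ⟨0, by simp⟩
  have ha1 : a ^ (Fintype.card F / 2) = -1 := by
    rcases FiniteField.pow_dichotomy hchar ha0 with h | h
    · exact absurd ((FiniteField.isSquare_iff hchar ha0).mpr h) ha
    · exact h
  have hω2 : (QuadraticAlgebra.omega : QuadraticAlgebra F a 0) * QuadraticAlgebra.omega
      = algebraMap F _ a := by
    rw [QuadraticAlgebra.omega_mul_omega_eq_algebraMap, map_zero, zero_mul, add_zero]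
  have hωq : (QuadraticAlgebra.omega : QuadraticAlgebra F a 0) ^ Fintype.card F
      = - QuadraticAlgebra.omega := by
    have hq : Fintype.card F = 2 * (Fintype.card F / 2) + 1 := by omega
    rw [hq, pow_succ, pow_mul, pow_two, hω2, ← map_pow, ha1, map_neg, map_one, neg_one_mul]
  have hz : z = algebraMap F _ z.re + algebraMap F _ z.im * QuadraticAlgebra.omega := by
    apply QuadraticAlgebra.ext <;> simp
  have hcast : ∀ x : F, (algebraMap F (QuadraticAlgebra F a 0) x) ^ Fintype.card F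
      = algebraMap F _ x := by
    intro x
    rw [← map_pow, FiniteField.pow_card]
  have hstar : star z = algebraMap F _ z.re - algebraMap F _ z.im * QuadraticAlgebra.omega := by
    apply QuadraticAlgebra.ext <;> simp
  rw [hstar]
  conv_lhs => rw [hz]
  rw [hn, add_pow_char_pow, mul_pow, ← hn, hcast, hcast, hωq, mul_neg, sub_eq_add_neg]

/-- `Φ : F^{2d} → E^d`. -/
def guPhi (d : ℕ) (v : SI d → F) : Fin d → QuadraticAlgebra F a 0 :=
  fun j => ⟨v (Sum.inl j), v (Sum.inr j)⟩

/-- the inverse of `Φ`. -/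
def guPsi (d : ℕ) (w : Fin d → QuadraticAlgebra F a 0) : SI d → F :=
  Sum.elim (fun j => (w j).re) (fun j => (w j).im)

omit [Fintype F] [Fact (∀ r : F, r ^ 2 ≠ a + 0 * r)] in
theorem guPhi_psi (d : ℕ) (w : Fin d → QuadraticAlgebra F a 0) : guPhi a d (guPsi a d w) = w := by
  funext j
  rfl

omit [Fintype F] [Fact (∀ r : F, r ^ 2 ≠ a + 0 * r)] in
theorem guPsi_phi (d : ℕ) (v : SI d → F) : guPsi a d (guPhi a d v) = v := by
  funext s
  rcases s with j | j <;> rfl

omit [Fintype F] [Fact (∀ r : F, r ^ 2 ≠ a + 0 * r)] in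
theorem guPhi_injective (d : ℕ) : Function.Injective (guPhi a d) := by
  intro v w h
  rw [← guPsi_phi a d v, ← guPsi_phi a d w, h]

omit [Fintype F] [Fact (∀ r : F, r ^ 2 ≠ a + 0 * r)] in
theorem guPhi_add (d : ℕ) (v w : SI d → F) :
    guPhi a d (v + w) = guPhi a d v + guPhi a d w := by
  funext j
  apply QuadraticAlgebra.ext <;> simp [guPhi]

omit [Fintype F] [Fact (∀ r : F, r ^ 2 ≠ a + 0 * r)] in
theorem guPhi_smul (d : ℕ) (c : F) (v : SI d → F) :
    guPhi a d (c • v) = c • guPhi a d v := by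
  funext j
  apply QuadraticAlgebra.ext <;> simp [guPhi]

omit [Fintype F] [Fact (∀ r : F, r ^ 2 ≠ a + 0 * r)] in
theorem guPsi_add (d : ℕ) (v w : Fin d → QuadraticAlgebra F a 0) :
    guPsi a d (v + w) = guPsi a d v + guPsi a d w := by
  funext s
  rcases s with j | j <;> simp [guPsi]

omit [Fintype F] [Fact (∀ r : F, r ^ 2 ≠ a + 0 * r)] in
theorem guPsi_smul (d : ℕ) (c : F) (v : Fin d → QuadraticAlgebra F a 0) :
    guPsi a d (c • v) = c • guPsi a d v := by
  funext s
  rcases s with j | j <;> simp [guPsi]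

/-- the `F`-linear map of `F^{2d}` induced by an `E`-matrix. -/
def guL (d : ℕ) (M : Matrix (Fin d) (Fin d) (QuadraticAlgebra F a 0)) :
    (SI d → F) →ₗ[F] (SI d → F) where
  toFun v := guPsi a d (M *ᵥ guPhi a d v)
  map_add' v w := by rw [guPhi_add, Matrix.mulVec_add, guPsi_add]
  map_smul' c v := by
    rw [guPhi_smul, Matrix.mulVec_smul, guPsi_smul]
    rfl

omit [Fintype F] in
theorem guL_apply (d : ℕ) (M : Matrix (Fin d) (Fin d) (QuadraticAlgebra F a 0)) (v : SI d → F) :
    guL a d M v = guPsi a d (M *ᵥ guPhi a d v) := rfl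

/-- the form identity: `B v w = im (h (Φ v) (Φ w))`. -/
theorem gu_form (hodd : Odd (Fintype.card F)) (ha : ¬ IsSquare a) (d : ℕ) (v w : SI d → F) :
    Cfsg.sympForm d F v w
      = (Cfsg.hermForm d (QuadraticAlgebra F a 0) (Fintype.card F) (guPhi a d v) (guPhi a d w)).im := by
  rw [sf_eq]
  unfold Cfsg.hermForm
  have h1 : ∀ (s : Finset (Fin d)) (f : Fin d → QuadraticAlgebra F a 0),
      (∑ i ∈ s, f i).im = ∑ i ∈ s, (f i).im := by
    intro s f
    exact map_sum (QuadraticAlgebra.imₗ (R := F) (a := a) (b := 0)) f s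
  rw [h1]
  apply Finset.sum_congr rfl
  intro i _
  rw [gu_pow_card a hodd ha]
  simp [guPhi]
  ring

omit [Fintype F] [Fact (∀ r : F, r ^ 2 ≠ a + 0 * r)] in
/-- `Φ (alpha0 v) = ω Φ v`. -/
theorem gu_alpha0 (d : ℕ) (v : SI d → F) :
    guPhi a d (alpha0 d a *ᵥ v)
      = (QuadraticAlgebra.omega : QuadraticAlgebra F a 0) • guPhi a d v := by
  funext j
  have h1 : (alpha0 d a *ᵥ v) (Sum.inl j) = a * v (Sum.inr j) := by
    unfold alpha0
    rw [Matrix.fromBlocks_mulVec]
    simp [Matrix.smul_mulVec]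
  have h2 : (alpha0 d a *ᵥ v) (Sum.inr j) = v (Sum.inl j) := by
    unfold alpha0
    rw [Matrix.fromBlocks_mulVec]
    simp
  apply QuadraticAlgebra.ext <;> simp [guPhi, h1, h2]

/-- the subgroup `S`: the `F`-matrices of the elements of `GU_d(E)`. -/
def guS (d : ℕ) : Subgroup (GL (SI d) F) where
  carrier := {x | ∃ g ∈ Cfsg.GU d (QuadraticAlgebra F a 0) (Fintype.card F), ∀ v : SI d → F,
    guPhi a d ((x : Matrix (SI d) (SI d) F) *ᵥ v)
      = (g : Matrix (Fin d) (Fin d) (QuadraticAlgebra F a 0)) *ᵥ guPhi a d v}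
  mul_mem' := by
    rintro x y ⟨g, hg, hx⟩ ⟨h, hh, hy⟩
    refine ⟨g * h, mul_mem hg hh, fun v => ?_⟩
    rw [Units.val_mul, ← Matrix.mulVec_mulVec, hx, hy, Units.val_mul, Matrix.mulVec_mulVec]
  one_mem' := ⟨1, one_mem _, fun v => by rw [Units.val_one, Units.val_one, Matrix.one_mulVec,
    Matrix.one_mulVec]⟩
  inv_mem' := by
    rintro x ⟨g, hg, hx⟩
    refine ⟨g⁻¹, inv_mem hg, fun v => ?_⟩
    have h := hx (((x⁻¹ : GL (SI d) F) : Matrix (SI d) (SI d) F) *ᵥ v)
    rw [Matrix.mulVec_mulVec, ← Units.val_mul, mul_inv_cancel, Units.val_one,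
      Matrix.one_mulVec] at h
    rw [h, Matrix.mulVec_mulVec, ← Units.val_mul, inv_mul_cancel, Units.val_one,
      Matrix.one_mulVec]

theorem mem_guS (d : ℕ) (x : GL (SI d) F) :
    x ∈ guS a d ↔ ∃ g ∈ Cfsg.GU d (QuadraticAlgebra F a 0) (Fintype.card F), ∀ v : SI d → F,
      guPhi a d ((x : Matrix (SI d) (SI d) F) *ᵥ v)
        = (g : Matrix (Fin d) (Fin d) (QuadraticAlgebra F a 0)) *ᵥ guPhi a d v := Iff.rfl

/-- the `F`-matrix of an invertible `E`-matrix. -/
noncomputable def guX (d : ℕ) (g : GL (Fin d) (QuadraticAlgebra F a 0)) : GL (SI d) F :=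
  glOfLin (guL a d (g : Matrix (Fin d) (Fin d) (QuadraticAlgebra F a 0)))
    (guL a d ((g⁻¹ : GL (Fin d) (QuadraticAlgebra F a 0)) :
      Matrix (Fin d) (Fin d) (QuadraticAlgebra F a 0)))
    (LinearMap.ext fun v => by
      rw [LinearMap.comp_apply, guL_apply, guL_apply, guPhi_psi, Matrix.mulVec_mulVec,
        ← Units.val_mul, mul_inv_cancel, Units.val_one, Matrix.one_mulVec, guPsi_phi]
      rfl)
    (LinearMap.ext fun v => by
      rw [LinearMap.comp_apply, guL_apply, guL_apply, guPhi_psi, Matrix.mulVec_mulVec,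
        ← Units.val_mul, inv_mul_cancel, Units.val_one, Matrix.one_mulVec, guPsi_phi]
      rfl)

theorem guX_spec (d : ℕ) (g : GL (Fin d) (QuadraticAlgebra F a 0)) (v : SI d → F) :
    guPhi a d ((guX a d g : Matrix (SI d) (SI d) F) *ᵥ v)
      = (g : Matrix (Fin d) (Fin d) (QuadraticAlgebra F a 0)) *ᵥ guPhi a d v := by
  unfold guX
  rw [glOfLin_mulVec, guL_apply, guPhi_psi]

end QA

/-- [GU] -/
theorem pkgGU : PkgGU.{u} := by
  intro F _ _ hodd d a ha
  haveI hfact : Fact (∀ r : F, r ^ 2 ≠ a + 0 * r) := ⟨fun r h => ha ⟨r, by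
    rw [zero_mul, add_zero] at h
    rw [← h, pow_two]⟩⟩
  letI : Fintype (QuadraticAlgebra F a 0) :=
    Fintype.ofEquiv (F × F) (QuadraticAlgebra.equivProd a 0).symm
  have hcard : Fintype.card (QuadraticAlgebra F a 0) = Fintype.card F ^ 2 := by
    rw [Fintype.card_congr (QuadraticAlgebra.equivProd a 0), Fintype.card_prod, pow_two]
  refine ⟨guS a d, ?_, ?_, ?_⟩
  · intro x hx
    obtain ⟨g, hg, hxg⟩ := (mem_guS a d x).mp hx
    rw [mem_spGL_iff]
    intro v w
    rw [gu_form a hodd ha, gu_form a hodd ha, hxg, hxg]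
    exact congrArg QuadraticAlgebra.im (hg _ _)
  · intro x hx
    obtain ⟨g, hg, hxg⟩ := (mem_guS a d x).mp hx
    apply Matrix.ext_of_mulVec_single
    intro s
    rw [← Matrix.mulVec_mulVec, ← Matrix.mulVec_mulVec]
    apply guPhi_injective a d
    rw [hxg, gu_alpha0, gu_alpha0, hxg, Matrix.mulVec_smul]
  · rw [← Cfsg.Agent.Lib.Helper45.card_GU hcard d]
    symm
    let f : ↥(Cfsg.GU d (QuadraticAlgebra F a 0) (Fintype.card F)) → ↥(guS a d) :=
      fun g => ⟨guX a d g.1, (mem_guS a d _).mpr ⟨g.1, g.2, guX_spec a d g.1⟩⟩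
    have hinj : Function.Injective f := by
      intro g h hgh
      have h1 : guX a d g.1 = guX a d h.1 := congrArg Subtype.val hgh
      apply Subtype.ext
      apply Units.ext
      apply Matrix.ext_of_mulVec_single
      intro s
      have h2 := guX_spec a d g.1 (guPsi a d (Pi.single s 1))
      rw [h1, guX_spec, guPhi_psi] at h2
      exact h2.symm
    have hsurj : Function.Surjective f := by
      rintro ⟨x, hx⟩
      obtain ⟨g, hg, hxg⟩ := (mem_guS a d x).mp hx
      refine ⟨⟨g, hg⟩, ?_⟩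
      apply Subtype.ext
      apply Units.ext
      apply Matrix.ext_of_mulVec_single
      intro s
      apply guPhi_injective a d
      show guPhi a d ((guX a d g : Matrix (SI d) (SI d) F) *ᵥ _) = _
      rw [guX_spec, hxg]
    exact Nat.card_congr (Equiv.ofBijective f ⟨hinj, hsurj⟩)

end Cfsg.Agent.Lib.Helper24.GUSP
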